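import Groth.Agent.S1585
import Groth.Agent.GenusLe.Birat
import Groth.Agent.H23.CocycleMod
import Groth.Agent.InvUfdLib.Semilocal
import Groth.Agent.InvX.Pullback
import Groth.Agent.BMLib.PtBij

/-!
# Invertible modules descend along a finite map which is bijective on functions off a finite set
-/

set_option autoImplicit false
set_option backward.isDefEq.respectTransparency false
set_option linter.style.haveILetI false

universe u

open CategoryTheory CategoryTheory.Limits AlgebraicGeometry TopologicalSpace Opposite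

namespace Groth.Agent.PicNormLib

open Groth.Agent.AModX Groth.Agent.InvX

variable {X Y : Scheme.{u}}

theorem pullElt_res (r : Y ⟶ X) {M : X.Modules} {U V : X.Opens} (h : V ≤ U) (e : Γ(M, U)) :
    res ((Scheme.Modules.pullback r).obj M) (r.preimage_mono h) (pullElt r e) = pullElt r (res M h e) :=
  (app_res ((Scheme.Modules.pullbackPushforwardAdjunction r).unit.app M) h e).symm

theorem pullElt_smul (r : Y ⟶ X) {M : X.Modules} {U : X.Opens} (c : Γ(X, U)) (e : Γ(M, U)) :
    pullElt r (c • e) = (show Γ(Y, r ⁻¹ᵁ U) from r.app U c) • pullElt r e :=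
  Scheme.Modules.Hom.app_smul ((Scheme.Modules.pullbackPushforwardAdjunction r).unit.app M) c e

/-- A frame near a fibre of a finite map. -/
theorem exists_frame_near_fibre (π : Y ⟶ X) [IsFinite π] {L : Y.Modules} (hL : PicF.IsInvertible L) (x : X) :
    ∃ (V : X.Opens) (_ : x ∈ V) (e : Γ(L, π ⁻¹ᵁ V)), IsFrame e := by
  obtain ⟨_, ⟨V₀, hV₀, rfl⟩, hyV₀, -⟩ :=
    X.isBasis_affineOpens.exists_subset_of_mem_open (Set.mem_univ x) isOpen_univ
  have hd : ∀ a ∈ π ⁻¹' {x}, ∀ a' ∈ π ⁻¹' {x}, a ⤳ a' → a = a' := by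
    intro a ha a' ha' h
    have := (π.isDiscrete_preimage_singleton x).1
    have h' : (⟨a, ha⟩ : π ⁻¹' {x}) ⤳ ⟨a', ha'⟩ := (subtype_specializes_iff _ _).2 h
    exact congrArg Subtype.val h'.eq
  obtain ⟨O, s, hFO, hs⟩ := InvUfdLib.exists_frame_finset hL (hV₀.preimage π) (π ⁻¹' {x})
    (π.finite_preimage_singleton x)
    (fun a (ha : π a = x) => show π a ∈ V₀ from ha ▸ hyV₀) hd
  let V : X.Opens := ⟨(π '' ((O : Set Y)ᶜ))ᶜ, (π.isClosedMap _ O.isOpen.isClosed_compl).isOpen_compl⟩
  have hy : x ∈ V := by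
    rintro ⟨a, ha, rfl⟩
    exact ha (hFO rfl)
  have hle : π ⁻¹ᵁ V ≤ O := fun a ha => not_not.1 fun h => ha ⟨a, h, rfl⟩
  exact ⟨V, hy, res L hle s, hs.res hle⟩

theorem app_bijective_of_isIso_restrict (π : Y ⟶ X) (W : X.Opens) [IsIso (π ∣_ W)] :
    Function.Bijective (π.app W) := by
  have h : IsIso ((π ∣_ W).app ⊤) := inferInstance
  rw [morphismRestrict_app] at h
  haveI := h
  haveI h2 : IsIso (π.app (W.ι ''ᵁ ⊤)) := IsIso.of_isIso_comp_right _
    (Y.presheaf.map (eqToHom (image_morphismRestrict_preimage π W ⊤)).op)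
  have e : W.ι ''ᵁ ⊤ = W := W.ι_image_top
  rw [e] at h2
  exact (ConcreteCategory.isIso_iff_bijective _).1 h2

/-- Invertible modules descend along a finite map which is injective on functions and is
bijective on functions over opens missing a finite closed set. -/
theorem exists_descent (π : Y ⟶ X) [IsFinite π] (B : Set X) (hB : B.Finite)
    (hBc : ∀ b ∈ B, IsClosed ({b} : Set X)) (hinj : ∀ W : X.Opens, Function.Injective (π.app W))
    (hsurj : ∀ W : X.Opens, (∀ b ∈ B, b ∉ W) → Function.Surjective (π.app W))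
    (N : Y.Modules) (hN : PicF.IsInvertible N) :
    ∃ L : X.Modules, PicF.IsInvertible L ∧ Nonempty ((Scheme.Modules.pullback π).obj L ≅ N) := by
  choose V hxV e₀ he₀ using exists_frame_near_fibre π hN
  have hcl : ∀ x : X, IsClosed (B \ {x}) := fun x => by
    rw [← Set.biUnion_of_singleton (B \ {x})]
    exact (hB.subset Set.sdiff_subset).isClosed_biUnion fun b hb => hBc b hb.1
  let U : X → X.Opens := fun x => V x ⊓ ⟨(B \ {x})ᶜ, (hcl x).isOpen_compl⟩
  have hxU : ∀ x, x ∈ U x := fun x => ⟨hxV x, fun h => h.2 rfl⟩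
  have hsep : ∀ x y, x ≠ y → ∀ b ∈ B, b ∉ U x ⊓ U y := by
    intro x y hxy b hb h
    by_cases hbx : b = x
    · exact h.2.2 ⟨hb, fun e => hxy (hbx.symm.trans e)⟩
    · exact h.1.2 ⟨hb, hbx⟩
  let e : ∀ x, Γ(N, π ⁻¹ᵁ U x) := fun x => res N (π.preimage_mono inf_le_left) (e₀ x)
  have he : ∀ x, IsFrame (e x) := fun x => (he₀ x).res _
  have hg : ∀ x y, ∃ g : (Γ(X, U x ⊓ U y))ˣ,
      res N (π.preimage_mono inf_le_left) (e x) =
        (show Γ(Y, π ⁻¹ᵁ (U x ⊓ U y)) from π.app (U x ⊓ U y) (g : Γ(X, U x ⊓ U y))) •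
          res N (π.preimage_mono inf_le_right) (e y) := by
    intro x y
    by_cases hxy : x = y
    · subst hxy
      exact ⟨1, by rw [Units.val_one, map_one, one_smul]⟩
    have hb := hsurj _ (hsep x y hxy)
    obtain ⟨a, ha⟩ := (he y).exists_coord (π.preimage_mono (inf_le_right : U x ⊓ U y ≤ U y))
      (res N (π.preimage_mono inf_le_left) (e x))
    obtain ⟨a', ha'⟩ := (he x).exists_coord (π.preimage_mono (inf_le_left : U x ⊓ U y ≤ U x))
      (res N (π.preimage_mono inf_le_right) (e y))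
    obtain ⟨g, rfl⟩ := hb a
    obtain ⟨g', rfl⟩ := hb a'
    have h1 : g * g' = 1 := hinj _ (by
      rw [map_mul, map_one]
      refine (he x).coord_unique (π.preimage_mono inf_le_left) ?_
      rw [mul_smul, ← ha', ← ha, one_smul])
    exact ⟨⟨g, g', h1, by rw [mul_comm, h1]⟩, ha⟩
  choose g hg using hg
  have hrel : ∀ x y (W : X.Opens) (hx : W ≤ U x) (hy : W ≤ U y),
      res N (π.preimage_mono hx) (e x) =
        (show Γ(Y, π ⁻¹ᵁ W) from π.app W (resR (le_inf hx hy) (g x y : Γ(X, U x ⊓ U y)))) •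
          res N (π.preimage_mono hy) (e y) := by
    intro x y W hx hy
    have h1 := congrArg (res N (π.preimage_mono (le_inf hx hy))) (hg x y)
    rw [res_smul] at h1
    refine (res_res _ _ (e x)).symm.trans (h1.trans (congrArg₂ (· • ·) ?_ (res_res _ _ (e y))))
    exact (ConcreteCategory.congr_hom (π.naturality (homOfLE (le_inf hx hy)).op) _).symm
  let t : H23.CocycleMod.Cocycle U :=
    { g := g
      trans := fun x y z W hx hy hz => hinj _ ((he z).coord_unique (π.preimage_mono hz) (by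
        rw [← hrel x z W hx hz, mul_comm, map_mul, mul_smul, ← hrel y z W hy hz, ← hrel x y W hx hy])) }
  have hUtop : iSup U = ⊤ := top_le_iff.1 fun x _ => Opens.mem_iSup.2 ⟨x, hxU x⟩
  refine ⟨H23.CocycleMod.mod t, H23.CocycleMod.isInvertible t hUtop, ?_⟩
  let L' := (Scheme.Modules.pullback π).obj (H23.CocycleMod.mod t)
  let f : ∀ x, Γ(L', π ⁻¹ᵁ U x) := fun x => pullElt π (H23.CocycleMod.frame t x)
  have hf : ∀ x, IsFrame (f x) := fun x => isFrame_pullElt π (H23.CocycleMod.isFrame_frame t x)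
  have hcov : ∀ y : Y, ∃ x, y ∈ π ⁻¹ᵁ U x := fun y => ⟨π y, hxU _⟩
  have hfrel : ∀ x y, res L' (π.preimage_mono inf_le_left) (f x) =
      (show Γ(Y, π ⁻¹ᵁ (U x ⊓ U y)) from π.app (U x ⊓ U y) (g x y : Γ(X, U x ⊓ U y))) •
        res L' (π.preimage_mono inf_le_right) (f y) := by
    intro x y
    refine (pullElt_res π (inf_le_left : U x ⊓ U y ≤ U x) (H23.CocycleMod.frame t x)).trans ?_
    refine Eq.trans ?_ (congrArg (_ • ·) (pullElt_res π (inf_le_right : U x ⊓ U y ≤ U y) (H23.CocycleMod.frame t y))).symm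
    rw [← pullElt_smul, H23.CocycleMod.res_frame]
  have hc : ∀ (M M' : Y.Modules) (a : ∀ x, Γ(M, π ⁻¹ᵁ U x)) (b : ∀ x, Γ(M', π ⁻¹ᵁ U x)),
      (∀ x, IsFrame (a x)) →
      (∀ x y, res M (π.preimage_mono inf_le_left) (a x) =
        (show Γ(Y, π ⁻¹ᵁ (U x ⊓ U y)) from π.app (U x ⊓ U y) (g x y : Γ(X, U x ⊓ U y))) •
          res M (π.preimage_mono inf_le_right) (a y)) →
      (∀ x y, res M' (π.preimage_mono inf_le_left) (b x) =
        (show Γ(Y, π ⁻¹ᵁ (U x ⊓ U y)) from π.app (U x ⊓ U y) (g x y : Γ(X, U x ⊓ U y))) •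
          res M' (π.preimage_mono inf_le_right) (b y)) →
      ∀ (x y : X) (W : Y.Opens) (hx : W ≤ π ⁻¹ᵁ U x) (hy : W ≤ π ⁻¹ᵁ U y) (c : Γ(Y, W)),
        res M hy (a y) = c • res M hx (a x) → res M' hy (b y) = c • res M' hx (b x) := by
    intro M M' a b ha h1 h2 x y W hx hy c hc
    have hW : W ≤ π ⁻¹ᵁ (U y ⊓ U x) := le_inf hy hx
    have k1 := congrArg (res M hW) (h1 y x)
    have k2 := congrArg (res M' hW) (h2 y x)
    rw [res_smul, res_res, res_res] at k1 k2
    rw [k2]
    exact congrArg (· • _) ((ha x).coord_unique hx (k1.symm.trans hc))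
  refine ⟨{ hom := ofFrames hcov hf (n := e) (hc L' N f e hf hfrel hg)
            inv := ofFrames hcov he (n := f) (hc N L' e f he hg hfrel)
            hom_inv_id := ?_
            inv_hom_id := ?_ }⟩
  · refine hom_ext_of_frames _ hcov f hf fun x => ?_
    rw [Scheme.Modules.Hom.id_app, Scheme.Modules.Hom.comp_app, ConcreteCategory.comp_apply, ofFrames_app, ofFrames_app]
    rfl
  · refine hom_ext_of_frames _ hcov e he fun x => ?_
    rw [Scheme.Modules.Hom.id_app, Scheme.Modules.Hom.comp_app, ConcreteCategory.comp_apply, ofFrames_app, ofFrames_app]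
    rfl

/-- The pullback to the normalization of an integral curve is surjective on invertible modules. -/
theorem exists_invertible_normalization (k : Type u) [Field k] (X : Scheme.{u}) [X.Over (Spec (CommRingCat.of k))]
    [IsIntegral X] [IsProper (X ↘ Spec (CommRingCat.of k))] (hdim : topologicalKrullDim X = 1)
    [QuasiCompact (X.fromSpecStalk (genericPoint X))] [QuasiSeparated (X.fromSpecStalk (genericPoint X))]
    (N : (Curv2.normalization X).Modules) (hN : PicF.IsInvertible N) :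
    ∃ L : X.Modules, PicF.IsInvertible L ∧
      Nonempty ((Scheme.Modules.pullback (Curv2.normalizationι X)).obj L ≅ N) := by
  obtain ⟨hfin, -, ⟨V₀, hV₀, hiso⟩, -, -⟩ := Groth.Agent.S1585.result k X
  haveI := CurveCohLib.isNoetherian_of_proper (k := k) (X := X)
  have hdense : Dense (V₀ : Set X) := V₀.isOpen.dense hV₀
  have hcl : ∀ b ∈ (V₀ : Set X)ᶜ, IsClosed ({b} : Set X) := fun b hb =>
    GenusLe.isClosed_of_notMem_dense hdim.le hdense hb
  refine exists_descent (Curv2.normalizationι X) _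
    (GenusLe.finite_of_isClosed_points V₀.isOpen.isClosed_compl hcl) hcl
    (fun W => NormCurve.app_injective X W) (fun W hW => ?_) N hN
  haveI := hiso
  haveI := BMLib.isIso_restrict_of_le (Curv2.normalizationι X) (W := W) (U := V₀)
    fun x hx => not_not.1 fun h => hW x h hx
  exact (app_bijective_of_isIso_restrict (Curv2.normalizationι X) W).2

end Groth.Agent.PicNormLib
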